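import Mathlib.Algebra.BigOperators.Module
import Mathlib.Algebra.BigOperators.Intervals
import Mathlib.Data.Nat.Choose.Sum
import Mathlib.Tactic.Abel
import Mathlib.Tactic.Ring
import Mathlib.Algebra.Group.ForwardDiff

/-!
If `∑ i ≤ r, C(n+i, r) • x i = 0` for all large `n` in an abelian group, then all `x i = 0`.
-/

set_option autoImplicit false
universe u

namespace Groth.Agent.Ega3A.BinomLemma

open Finset

variable {K : Type u} [AddCommGroup K]

theorem diff (x : ℕ → K) (m s N₀ : ℕ)
    (h : ∀ n, N₀ ≤ n → ∑ i ∈ range m, (n + i).choose (s + 1) • x i = 0) :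
    ∀ n, N₀ ≤ n → ∑ i ∈ range m, (n + i).choose s • x i = 0 := by
  intro n hn
  have h1 := h (n + 1) (by omega)
  have h2 := h n hn
  have h3 : ∑ i ∈ range m, (n + 1 + i).choose (s + 1) • x i =
      ∑ i ∈ range m, (n + i).choose s • x i + ∑ i ∈ range m, (n + i).choose (s + 1) • x i := by
    rw [← sum_add_distrib]
    refine sum_congr rfl fun i _ => ?_
    rw [show n + 1 + i = (n + i) + 1 by ring, Nat.choose_succ_succ, add_smul]
  rw [h1, h2, add_zero] at h3
  exact h3.symm

theorem sum_eq_zero (x : ℕ → K) (m s N₀ : ℕ)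
    (h : ∀ n, N₀ ≤ n → ∑ i ∈ range m, (n + i).choose s • x i = 0) :
    ∑ i ∈ range m, x i = 0 := by
  induction s with
  | zero => simpa using h N₀ le_rfl
  | succ s ih => exact ih (diff x m s N₀ h)

/-- Abel summation. -/
theorem abel_sum (x : ℕ → K) (c : ℕ → ℕ) (m : ℕ) (d : ℕ → ℕ) (hd : ∀ i, c (i + 1) = c i + d i) :
    ∑ i ∈ range (m + 1), c i • x i + ∑ i ∈ range m, d i • ∑ j ∈ range (i + 1), x j =
      c m • ∑ j ∈ range (m + 1), x j := by
  induction m with
  | zero => simp
  | succ m ih =>
    rw [sum_range_succ _ (m + 1), sum_range_succ (fun i => d i • ∑ j ∈ range (i + 1), x j) m]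
    have : ∑ i ∈ range (m + 1), c i • x i + c (m + 1) • x (m + 1) +
        (∑ i ∈ range m, d i • ∑ j ∈ range (i + 1), x j + d m • ∑ j ∈ range (m + 1), x j) =
        (∑ i ∈ range (m + 1), c i • x i + ∑ i ∈ range m, d i • ∑ j ∈ range (i + 1), x j) +
          c (m + 1) • x (m + 1) + d m • ∑ j ∈ range (m + 1), x j := by abel
    rw [this, ih, sum_range_succ _ (m + 1), smul_add, hd m, add_smul (c m) (d m) (∑ j ∈ range (m + 1), x j)]
    abel

theorem eq_zero (r : ℕ) : ∀ (x : ℕ → K) (N₀ : ℕ),
    (∀ n, N₀ ≤ n → ∑ i ∈ range (r + 1), (n + i).choose r • x i = 0) → ∀ i < r + 1, x i = 0 := by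
  induction r with
  | zero =>
    intro x N₀ h i hi
    have := h N₀ le_rfl
    simp only [zero_add, sum_range_one, Nat.choose_zero_right, one_smul] at this
    obtain rfl : i = 0 := by omega
    exact this
  | succ r ih =>
    intro x N₀ h
    have h0 := sum_eq_zero x (r + 1 + 1) (r + 1) N₀ h
    have h1 : ∀ n, N₀ ≤ n → ∑ i ∈ range (r + 1), (n + i).choose r • ∑ j ∈ range (i + 1), x j = 0 := by
      intro n hn
      have h2 := abel_sum x (fun i => (n + i).choose (r + 1)) (r + 1) (fun i => (n + i).choose r)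
        (fun i => by
          rw [← add_assoc, Nat.choose_succ_succ, add_comm])
      rw [h0, smul_zero, h n hn, zero_add] at h2
      exact h2
    have h3 := ih _ N₀ h1
    have h4 : ∀ i < r + 1, x i = 0 := by
      intro i
      induction i using Nat.strong_induction_on with
      | _ i ihi =>
        intro hi
        have := h3 i hi
        rw [sum_range_succ, sum_eq_zero_iff_of_all x i (fun j hj => ihi j hj (by omega)), zero_add] at this
        exact this
    intro i hi
    rcases Nat.lt_or_ge i (r + 1) with hi' | hi'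
    · exact h4 i hi'
    · obtain rfl : i = r + 1 := by omega
      rw [sum_range_succ, sum_eq_zero_iff_of_all x (r + 1) h4, zero_add] at h0
      exact h0
where
  sum_eq_zero_iff_of_all (x : ℕ → K) (i : ℕ) (h : ∀ j < i, x j = 0) :
      ∑ j ∈ range i, x j = 0 :=
    Finset.sum_eq_zero fun j hj => h j (mem_range.1 hj)

/-- The Koszul relation for Hilbert functions of projective space. -/
theorem koszul_num (r y : ℕ) : ((y + r + 1).choose r : ℤ) =
    ∑ i ∈ range (r + 1), (-1 : ℤ) ^ i * ((r + 1).choose (i + 1) : ℤ) *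
      ((y + r - i).choose r : ℤ) := by
  have h1 : (fwdDiff 1)^[r + 1] (fun x : ℕ => (x.choose r : ℤ)) = fun _ => 0 := by
    rw [Function.iterate_succ_apply']
    have := fwdDiff_iter_choose 0 r
    rw [add_zero] at this
    rw [this]
    ext n
    simp [fwdDiff]
  have h2 := congrFun h1 y
  rw [fwdDiff_iter_eq_sum_shift, sum_range_succ, ← sum_range_reflect] at h2
  simp only [smul_eq_mul, mul_one, Nat.sub_self, pow_zero, one_mul, Nat.choose_self,
    Nat.cast_one] at h2
  rw [add_comm, ← add_assoc] at h2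
  rw [eq_neg_of_add_eq_zero_left h2, ← sum_neg_distrib]
  refine sum_congr rfl fun i hi => ?_
  have hi' := mem_range.1 hi
  have e1 : r + 1 - (r + 1 - 1 - i) = i + 1 := by omega
  have e2 : (r + 1).choose (r + 1 - 1 - i) = (r + 1).choose (i + 1) := by
    rw [← Nat.choose_symm (show i + 1 ≤ r + 1 by omega)]
    congr 1
    omega
  have e3 : y + (r + 1 - 1 - i) = y + r - i := by omega
  rw [e1, e2, e3, pow_succ]
  ring

end Groth.Agent.Ega3A.BinomLemma
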