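import Groth.Agent.Sga67.K0Loc
import Groth.Agent.Ega3A.BinomLemma
import Mathlib.Order.Filter.Germ.Basic
import Mathlib.Order.Filter.AtTopBot.Basic

/-!
# Abstract projective bundle theorem for `K₀` of vector bundles

An axiomatic form of SGA 6 VI 1.1: `fs` is pullback from the base, `T n` the twist by `O(n)`
(`n ≥ 0`), `T'` the twist by `O(-1)`, `fp` the direct image, `Reg` a class of regular bundles.
-/

set_option autoImplicit false

universe v' u' v u

open CategoryTheory CategoryTheory.Limits Filter Finset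

namespace Groth.Agent.Ega3A.K0Proj

open Groth.Agent.Sga67.K0Loc KZero

variable {S : Type u} [Category.{v} S] [Abelian S] {P : Type u'} [Category.{v'} P] [Abelian P]

/-- The hypotheses of the abstract projective bundle theorem. -/
structure Hyp (VS : ObjectProperty S) (VP : ObjectProperty P) (r : ℕ)
    (fs : S ⥤ P) (T : ℕ → P ⥤ P) (T' : P ⥤ P) (fp : P → S) (Reg : ObjectProperty P) : Prop where
  zeroS : ∀ X, IsZero X → VS X
  zeroP : ∀ X, IsZero X → VP X
  fs_mem : ∀ E, VS E → VP (fs.obj E)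
  T_mem : ∀ i M, VP M → VP ((T i).obj M)
  T'_mem : ∀ M, VP M → VP (T'.obj M)
  T_zero : ∀ M, VP M → Nonempty ((T 0).obj M ≅ M)
  T_add : ∀ i j M, VP M → Nonempty ((T i).obj ((T j).obj M) ≅ (T (i + j)).obj M)
  T'_T : ∀ M, VP M → Nonempty (T'.obj ((T 1).obj M) ≅ M)
  fp_iso : ∀ F F', Nonempty (F ≅ F') → Nonempty (fp F ≅ fp F')
  VS_iso : ∀ X Y, Nonempty (X ≅ Y) → VS X → VS Y
  reg_mem : ∀ F, VP F → ∃ n₀, ∀ n, n₀ ≤ n → Reg ((T n).obj F)
  fp_mem : ∀ F, Reg F → VS (fp F)
  fp_add : ∀ C : ShortComplex P, C.ShortExact → Reg C.X₁ → Reg C.X₂ → Reg C.X₃ →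
    clSub VS (fp C.X₂) = clSub VS (fp C.X₁) + clSub VS (fp C.X₃)
  fs_reg : ∀ E, VS E → Reg ((T 1).obj (fs.obj E))
  fp_cl : ∀ n E, VS E → clSub VS (fp ((T n).obj (fs.obj E))) = (n + r).choose r • clSub VS E
  resol : ∀ F, Reg F → VP F → ∃ (L K : ℕ → P), L 0 = F ∧ (∀ i, Reg (L i)) ∧ (∀ i, VP (L i)) ∧
    (∀ i, VP (K i)) ∧
    (∀ i, ∃ (a : K i ⟶ fs.obj (fp (L i))) (b : fs.obj (fp (L i)) ⟶ L i) (w : a ≫ b = 0),
      (ShortComplex.mk a b w).ShortExact) ∧
    (∀ i, Nonempty (L (i + 1) ≅ (T 1).obj (K i))) ∧ IsZero (L (r + 1))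

variable {VS : ObjectProperty S} {VP : ObjectProperty P} {r : ℕ}
    {fs : S ⥤ P} {T : ℕ → P ⥤ P} {T' : P ⥤ P} {fp : P → S} {Reg : ObjectProperty P}
    [fs.Additive] [PreservesFiniteLimits fs] [PreservesFiniteColimits fs]
    [∀ i, (T i).Additive] [∀ i, PreservesFiniteLimits (T i)] [∀ i, PreservesFiniteColimits (T i)]
    [T'.Additive] [PreservesFiniteLimits T'] [PreservesFiniteColimits T']
    (H : Hyp VS VP r fs T T' fp Reg)

include H

omit [fs.Additive] [PreservesFiniteLimits fs] [PreservesFiniteColimits fs]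
    [∀ i, (T i).Additive] [∀ i, PreservesFiniteLimits (T i)] [∀ i, PreservesFiniteColimits (T i)]
    [T'.Additive] [PreservesFiniteLimits T'] [PreservesFiniteColimits T'] in
theorem mkP_congr {X Y : P} (e : Nonempty (X ≅ Y)) (hX : VP X) (hY : VP Y) :
    mk VP X hX = mk VP Y hY :=
  mk_congr_of_zero e.some (isZero_zero P) (H.zeroP _ (isZero_zero P)) hX hY

omit [fs.Additive] [PreservesFiniteLimits fs] [PreservesFiniteColimits fs]
    [∀ i, (T i).Additive] [∀ i, PreservesFiniteLimits (T i)] [∀ i, PreservesFiniteColimits (T i)]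
    [T'.Additive] [PreservesFiniteLimits T'] [PreservesFiniteColimits T'] in
theorem clS_congr {X Y : S} (e : Nonempty (X ≅ Y)) : clSub VS X = clSub VS Y := by
  by_cases hX : VS X
  · have hY := H.VS_iso X Y e hX
    rw [clSub_eq_mk VS hX, clSub_eq_mk VS hY]
    exact mk_congr_of_zero e.some (isZero_zero S) (H.zeroS _ (isZero_zero S)) hX hY
  · have hY : ¬ VS Y := fun h => hX (H.VS_iso Y X ⟨e.some.symm⟩ h)
    simp [clSub, hX, hY]

/-- pullback on `K₀`. -/
noncomputable def f : K0sub VS →+ K0sub VP := SGA6.mapSub fs VS VP H.fs_mem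

/-- twist on `K₀`. -/
noncomputable def t (i : ℕ) : K0sub VP →+ K0sub VP := SGA6.mapSub (T i) VP VP (H.T_mem i)

/-- inverse twist on `K₀`. -/
noncomputable def t' : K0sub VP →+ K0sub VP := SGA6.mapSub T' VP VP H.T'_mem

omit [∀ i, (T i).Additive] [∀ i, PreservesFiniteLimits (T i)] [∀ i, PreservesFiniteColimits (T i)]
    [T'.Additive] [PreservesFiniteLimits T'] [PreservesFiniteColimits T'] in
theorem f_mk (E : S) (hE : VS E) : f H (mk VS E hE) = mk VP (fs.obj E) (H.fs_mem E hE) :=
  mapSub_mk fs VS VP H.fs_mem E hE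

omit [fs.Additive] [PreservesFiniteLimits fs] [PreservesFiniteColimits fs]
    [T'.Additive] [PreservesFiniteLimits T'] [PreservesFiniteColimits T'] in
theorem t_mk (i : ℕ) (F : P) (hF : VP F) :
    t H i (mk VP F hF) = mk VP ((T i).obj F) (H.T_mem i F hF) :=
  mapSub_mk (T i) VP VP (H.T_mem i) F hF

omit [fs.Additive] [PreservesFiniteLimits fs] [PreservesFiniteColimits fs]
    [T'.Additive] [PreservesFiniteLimits T'] [PreservesFiniteColimits T'] in
theorem t_zero (x : K0sub VP) : t H 0 x = x := by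
  have : t H 0 = AddMonoidHom.id _ := hom_ext fun X hX => by
    rw [t_mk]
    exact mkP_congr H (H.T_zero X hX) _ _
  rw [this]; rfl

omit [fs.Additive] [PreservesFiniteLimits fs] [PreservesFiniteColimits fs]
    [T'.Additive] [PreservesFiniteLimits T'] [PreservesFiniteColimits T'] in
theorem t_add (i j : ℕ) (x : K0sub VP) : t H i (t H j x) = t H (i + j) x := by
  have : (t H i).comp (t H j) = t H (i + j) := hom_ext fun X hX => by
    rw [AddMonoidHom.comp_apply, t_mk, t_mk, t_mk]
    exact mkP_congr H (H.T_add i j X hX) _ _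
  exact DFunLike.congr_fun this x

omit [fs.Additive] [PreservesFiniteLimits fs] [PreservesFiniteColimits fs] in
theorem t'_t (x : K0sub VP) : t' H (t H 1 x) = x := by
  have : (t' H).comp (t H 1) = AddMonoidHom.id _ := hom_ext fun X hX => by
    rw [AddMonoidHom.comp_apply, t_mk, t', mapSub_mk]
    exact mkP_congr H (H.T'_T X hX) _ _
  exact DFunLike.congr_fun this x

omit [fs.Additive] [PreservesFiniteLimits fs] [PreservesFiniteColimits fs] in
theorem t_one_injective : Function.Injective (t H 1) :=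
  Function.LeftInverse.injective (t'_t H)

/-- The germ at infinity of the Hilbert function with values in `K₀` of the base. -/
noncomputable def Φ : K0sub VP →+ Germ (atTop : Filter ℕ) (K0sub VS) :=
  lift (fun F _ => ((fun n => clSub VS (fp ((T n).obj F)) : ℕ → K0sub VS) :
    Germ (atTop : Filter ℕ) (K0sub VS))) (by
    intro C hC h₁ h₂ h₃
    obtain ⟨n₁, hn₁⟩ := H.reg_mem _ h₁
    obtain ⟨n₂, hn₂⟩ := H.reg_mem _ h₂
    obtain ⟨n₃, hn₃⟩ := H.reg_mem _ h₃
    rw [← Germ.coe_add, Germ.coe_eq]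
    refine eventually_atTop.2 ⟨max n₁ (max n₂ n₃), fun n hn => ?_⟩
    exact H.fp_add (C.map (T n)) (hC.map_of_exact (T n)) (hn₁ n (by omega)) (hn₂ n (by omega))
      (hn₃ n (by omega)))

omit [fs.Additive] [PreservesFiniteLimits fs] [PreservesFiniteColimits fs]
    [T'.Additive] [PreservesFiniteLimits T'] [PreservesFiniteColimits T'] in
theorem Φ_mk (F : P) (hF : VP F) : Φ H (mk VP F hF) =
    ((fun n => clSub VS (fp ((T n).obj F)) : ℕ → K0sub VS) :
      Germ (atTop : Filter ℕ) (K0sub VS)) :=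
  lift_mk _ _ _ _

omit [T'.Additive] [PreservesFiniteLimits T'] [PreservesFiniteColimits T'] in
theorem Φ_t_f (i : ℕ) (x : K0sub VS) : Φ H (t H i (f H x)) =
    ((fun n => (n + i + r).choose r • x : ℕ → K0sub VS) : Germ (atTop : Filter ℕ) (K0sub VS)) := by
  let g : K0sub VS →+ Germ (atTop : Filter ℕ) (K0sub VS) :=
    AddMonoidHom.mk' (fun x => ((fun n => (n + i + r).choose r • x : ℕ → K0sub VS) :
      Germ (atTop : Filter ℕ) (K0sub VS))) (by
      intro a b
      rw [← Germ.coe_add]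
      congr 1
      funext n
      simp [smul_add])
  have : (Φ H).comp ((t H i).comp (f H)) = g := hom_ext fun X hX => by
    rw [AddMonoidHom.comp_apply, AddMonoidHom.comp_apply, f_mk, t_mk, Φ_mk]
    change _ = ((fun n => (n + i + r).choose r • (mk VS X hX) : ℕ → K0sub VS) :
      Germ (atTop : Filter ℕ) (K0sub VS))
    congr 1
    funext n
    rw [clS_congr H (H.fp_iso _ _ (H.T_add n i _ (H.fs_mem X hX))), H.fp_cl _ X hX,
      clSub_eq_mk VS hX]
  exact DFunLike.congr_fun this x

/-- The map of the projective bundle theorem. -/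
noncomputable def Ψ : (Fin (r + 1) → K0sub VS) →+ K0sub VP :=
  ∑ i : Fin (r + 1), ((t H (i : ℕ)).comp (f H)).comp (Pi.evalAddMonoidHom (fun _ => K0sub VS) i)

omit [T'.Additive] [PreservesFiniteLimits T'] [PreservesFiniteColimits T'] in
theorem Ψ_apply (x : Fin (r + 1) → K0sub VS) :
    Ψ H x = ∑ i : Fin (r + 1), t H (i : ℕ) (f H (x i)) := by
  simp [Ψ, AddMonoidHom.finsetSum_apply]

omit [T'.Additive] [PreservesFiniteLimits T'] [PreservesFiniteColimits T'] in
/-- The numerical uniqueness: `∑ i ≤ r, t^i f x_i = 0` implies `x_i = 0`. -/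
theorem eq_zero_of_sum (x : ℕ → K0sub VS)
    (h : ∑ i ∈ range (r + 1), t H i (f H (x i)) = 0) : ∀ i < r + 1, x i = 0 := by
  have h1 : Φ H (∑ i ∈ range (r + 1), t H i (f H (x i))) = 0 := by rw [h, map_zero]
  rw [map_sum] at h1
  simp only [Φ_t_f] at h1
  have h2 : ((fun n => ∑ i ∈ range (r + 1), (n + i + r).choose r • x i : ℕ → K0sub VS) :
      Germ (atTop : Filter ℕ) (K0sub VS)) = 0 := by
    rw [← h1]
    have : (fun n => ∑ i ∈ range (r + 1), (n + i + r).choose r • x i) =
        ∑ i ∈ range (r + 1), (fun n => (n + i + r).choose r • x i : ℕ → K0sub VS) := by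
      funext n
      simp
    rw [this]
    exact map_sum (Germ.coeAddHom (atTop : Filter ℕ)) _ _
  have h3 := Germ.coe_eq.1 (h2.trans Germ.coe_zero.symm)
  obtain ⟨N, hN⟩ := eventually_atTop.1 h3
  refine BinomLemma.eq_zero r x (N + r) fun n hn => ?_
  have := hN (n - r) (by omega)
  simp only [Pi.zero_apply] at this
  rw [← this]
  refine sum_congr rfl fun i _ => ?_
  congr 2
  omega

omit [T'.Additive] [PreservesFiniteLimits T'] [PreservesFiniteColimits T'] in
theorem Ψ_injective : Function.Injective (Ψ H) := by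
  rw [injective_iff_map_eq_zero]
  intro x hx
  rw [Ψ_apply] at hx
  let y : ℕ → K0sub VS := fun i => if h : i < r + 1 then x ⟨i, h⟩ else 0
  have h1 : ∑ i ∈ range (r + 1), t H i (f H (y i)) = 0 := by
    rw [← hx, ← Fin.sum_univ_eq_sum_range (fun i => t H i (f H (y i)))]
    refine sum_congr rfl fun i _ => ?_
    simp only [y, dif_pos i.2]
  have h2 := eq_zero_of_sum H y h1
  funext i
  have := h2 i i.2
  simp only [y, dif_pos i.2] at this
  exact this

omit [T'.Additive] [PreservesFiniteLimits T'] [PreservesFiniteColimits T'] in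
theorem mem_ran (i : ℕ) (hi : i < r + 1) (x : K0sub VS) : t H i (f H x) ∈ (Ψ H).range := by
  refine ⟨Pi.single ⟨i, hi⟩ x, ?_⟩
  rw [Ψ_apply, Finset.sum_eq_single (⟨i, hi⟩ : Fin (r + 1))]
  · simp
  · intro j _ hj
    rw [Pi.single_eq_of_ne hj, map_zero, map_zero]
  · intro h
    exact absurd (Finset.mem_univ _) h

omit [T'.Additive] [PreservesFiniteLimits T'] [PreservesFiniteColimits T'] in
/-- The relation given by the canonical resolution of a regular bundle. -/
theorem resolution (F : P) (hF : Reg F) (hF' : VP F) : ∃ e : ℕ → K0sub VS,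
    t H (r + 1) (mk VP F hF') =
      ∑ i ∈ range (r + 1), (-1 : ℤ) ^ i • t H (r + 1 - i) (f H (e i)) := by
  obtain ⟨L, K, rfl, hL, hLV, hK, hex, hit, hz⟩ := H.resol F hF hF'
  let a : ℕ → K0sub VP := fun i => mk VP (L i) (hLV i)
  let e : ℕ → K0sub VS := fun i => mk VS (fp (L i)) (H.fp_mem _ (hL i))
  have ha : ∀ i, t H 1 (a i) = t H 1 (f H (e i)) - a (i + 1) := by
    intro i
    obtain ⟨α, β, w, hS⟩ := hex i
    have h1 := mk_shortExact hS (hK i) (H.fs_mem _ (H.fp_mem _ (hL i))) (hLV i)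
    have h2 : a (i + 1) = t H 1 (mk VP (K i) (hK i)) := by
      rw [t_mk]
      exact mkP_congr H (hit i) _ _
    rw [h2, f_mk, eq_sub_iff_add_eq, ← map_add, add_comm]
    exact congrArg _ h1.symm
  have key : ∀ m, t H m (a 0) =
      ∑ i ∈ range m, (-1 : ℤ) ^ i • t H (m - i) (f H (e i)) + (-1 : ℤ) ^ m • a m := by
    intro m
    induction m with
    | zero => simp [t_zero]
    | succ m ih =>
      have h1 : t H (m + 1) (a 0) = t H 1 (t H m (a 0)) := by rw [t_add, add_comm]
      rw [h1, ih, map_add, map_sum, map_zsmul, ha, sum_range_succ, smul_sub]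
      have h2 : ∑ i ∈ range m, t H 1 ((-1 : ℤ) ^ i • t H (m - i) (f H (e i))) =
          ∑ i ∈ range m, (-1 : ℤ) ^ i • t H (m + 1 - i) (f H (e i)) := by
        refine sum_congr rfl fun i hi => ?_
        rw [map_zsmul, t_add]
        congr 3
        have := mem_range.1 hi
        omega
      rw [h2]
      have h3 : m + 1 - m = 1 := by omega
      rw [h3, pow_succ, mul_neg_one, neg_smul]
      abel
  refine ⟨e, ?_⟩
  have h1 := key (r + 1)
  have h2 : a (r + 1) = 0 := mk_of_isZero hz _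
  rw [h2, smul_zero, add_zero] at h1
  exact h1

theorem f_mem (E : S) (hE : VS E) :
    f H (mk VS E hE) ∈ (Ψ H).range.map (t H 1) := by
  let ε : K0sub VS := mk VS E hE
  obtain ⟨e, he⟩ := resolution H _ (H.fs_reg E hE) (H.T_mem 1 _ (H.fs_mem E hE))
  have he' : t H (r + 2) (f H ε) =
      ∑ i ∈ range (r + 1), (-1 : ℤ) ^ i • t H (r + 1 - i) (f H (e i)) := by
    rw [← he, ← t_mk H 1 (fs.obj E) (H.fs_mem E hE), ← f_mk H E hE, t_add]
  -- the numerical identity
  have hr : e r = ε := by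
    have h1 : Φ H (t H (r + 2) (f H ε)) =
        Φ H (∑ i ∈ range (r + 1), (-1 : ℤ) ^ i • t H (r + 1 - i) (f H (e i))) := by rw [he']
    rw [map_sum] at h1
    simp only [map_zsmul, Φ_t_f] at h1
    have h2 : ((fun n => (n + (r + 2) + r).choose r • ε : ℕ → K0sub VS) :
        Germ (atTop : Filter ℕ) (K0sub VS)) =
        ((fun n => ∑ i ∈ range (r + 1), (-1 : ℤ) ^ i • ((n + (r + 1 - i) + r).choose r • e i) :
          ℕ → K0sub VS) : Germ (atTop : Filter ℕ) (K0sub VS)) := by
      rw [h1]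
      have : (fun n => ∑ i ∈ range (r + 1), (-1 : ℤ) ^ i • ((n + (r + 1 - i) + r).choose r • e i)) =
          ∑ i ∈ range (r + 1), (-1 : ℤ) ^ i •
            (fun n => (n + (r + 1 - i) + r).choose r • e i : ℕ → K0sub VS) := by
        funext n
        simp
      rw [this]
      exact (map_sum (Germ.coeAddHom (M := K0sub VS) (atTop : Filter ℕ)) _ _).symm
    obtain ⟨N, hN⟩ := eventually_atTop.1 (Germ.coe_eq.1 h2)
    let x : ℕ → K0sub VS := fun k =>
      (-1 : ℤ) ^ (r - k) • (e (r - k) - ((r + 1).choose (r - k + 1)) • ε)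
    have hx : ∀ n, N + r + 1 ≤ n → ∑ k ∈ range (r + 1), (n + k).choose r • x k = 0 := by
      intro n hn
      rw [← sum_range_reflect]
      obtain ⟨m, rfl⟩ : ∃ m, n = m + r + 1 := ⟨n - (r + 1), by omega⟩
      have h3 := hN m (by omega)
      have h4 := BinomLemma.koszul_num r (m + r + 1)
      have h5 : ((m + (r + 2) + r).choose r) • ε =
          ∑ i ∈ range (r + 1), ((-1 : ℤ) ^ i * ((r + 1).choose (i + 1) : ℤ) *
            ((m + r + 1 + r - i).choose r : ℤ)) • ε := by
        rw [← sum_smul, ← h4, natCast_zsmul]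
        congr 2
        omega
      change ((m + (r + 2) + r).choose r) • ε = _ at h3
      rw [h5] at h3
      have h6 := sub_eq_zero.2 h3.symm
      rw [← sum_sub_distrib] at h6
      rw [← h6]
      refine sum_congr rfl fun i hi => ?_
      have hi' := mem_range.1 hi
      simp only [x]
      have e1 : r - (r + 1 - 1 - i) = i := by omega
      have e2 : m + r + 1 + (r + 1 - 1 - i) = m + (r + 1 - i) + r := by omega
      have e3 : m + r + 1 + r - i = m + (r + 1 - i) + r := by omega
      rw [e1, e2, e3, smul_sub, smul_sub, smul_comm ((m + (r + 1 - i) + r).choose r) ((-1 : ℤ) ^ i)]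
      congr 1
      simp only [← natCast_zsmul, smul_smul]
      congr 1
      ring
    have h7 := BinomLemma.eq_zero r x (N + r + 1) hx 0 (by omega)
    simp only [x, Nat.sub_zero, Nat.choose_self, one_smul] at h7
    have h8 : (-1 : ℤ) ^ r • ((-1 : ℤ) ^ r • (e r - ε)) = 0 := by rw [h7, smul_zero]
    rw [smul_smul, ← mul_pow] at h8
    simpa [sub_eq_zero] using h8
  -- conclude
  rw [sum_range_succ, hr] at he'
  have e1 : r + 1 - r = 1 := by omega
  rw [e1] at he'
  have h1 : t H 1 ((-1 : ℤ) ^ r • f H ε) =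
      t H 1 (t H (r + 1) (f H ε) - ∑ i ∈ range r, (-1 : ℤ) ^ i • t H (r - i) (f H (e i))) := by
    rw [map_sub, t_add, map_sum, map_zsmul]
    have e2 : 1 + (r + 1) = r + 2 := by omega
    rw [e2, he']
    have h2 : ∑ i ∈ range r, t H 1 ((-1 : ℤ) ^ i • t H (r - i) (f H (e i))) =
        ∑ i ∈ range r, (-1 : ℤ) ^ i • t H (r + 1 - i) (f H (e i)) := by
      refine sum_congr rfl fun i hi => ?_
      rw [map_zsmul, t_add]
      congr 3
      have := mem_range.1 hi
      omega
    rw [h2]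
    abel
  have h2 := t_one_injective H h1
  have h3 : (-1 : ℤ) ^ r • f H ε ∈ (Ψ H).range.map (t H 1) := by
    rw [h2]
    refine sub_mem ?_ (sum_mem fun i hi => AddSubgroup.zsmul_mem _ ?_ _)
    · exact ⟨t H r (f H ε), mem_ran H r (by omega) _, by
        rw [t_add]; congr 2; omega⟩
    · have hi' := mem_range.1 hi
      exact ⟨t H (r - i - 1) (f H (e i)), mem_ran H _ (by omega) _, by
        rw [t_add]; congr 2; omega⟩
  have h4 := AddSubgroup.zsmul_mem _ h3 ((-1 : ℤ) ^ r)
  rw [smul_smul, ← mul_pow] at h4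
  simpa using h4

theorem range_le : (Ψ H).range ≤ (Ψ H).range.map (t H 1) := by
  rintro _ ⟨x, rfl⟩
  rw [Ψ_apply]
  refine sum_mem fun i _ => ?_
  obtain ⟨i, hi⟩ := i
  rcases Nat.eq_zero_or_pos i with rfl | hpos
  · simp only [t_zero]
    have : ∀ y : K0sub VS, f H y ∈ (Ψ H).range.map (t H 1) := by
      intro y
      have htop := eq_top_of_mk_mem (((Ψ H).range.map (t H 1)).comap (f H)) (f_mem H)
      have hy : y ∈ ((Ψ H).range.map (t H 1)).comap (f H) := by rw [htop]; trivial
      exact hy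
    exact this _
  · refine ⟨t H (i - 1) (f H (x ⟨i, hi⟩)), mem_ran H _ (by omega) _, ?_⟩
    rw [t_add]
    congr 2
    simp only
    omega

theorem mem_of_t_one {y : K0sub VP} (hy : t H 1 y ∈ (Ψ H).range) : y ∈ (Ψ H).range := by
  obtain ⟨z, hz, hzy⟩ := range_le H hy
  rwa [← t_one_injective H hzy]

theorem mem_of_t (n : ℕ) {y : K0sub VP} (hy : t H n y ∈ (Ψ H).range) : y ∈ (Ψ H).range := by
  induction n with
  | zero => rwa [t_zero] at hy
  | succ n ih =>
    apply ih
    apply mem_of_t_one H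
    rw [t_add]
    have e : 1 + n = n + 1 := add_comm _ _
    rwa [e]

theorem mem_of_reg (F : P) (hF : Reg F) (hF' : VP F) : mk VP F hF' ∈ (Ψ H).range := by
  obtain ⟨e, he⟩ := resolution H F hF hF'
  apply mem_of_t H r
  have h1 : t H 1 (t H r (mk VP F hF')) ∈ (Ψ H).range.map (t H 1) := by
    have e1 : 1 + r = r + 1 := add_comm _ _
    rw [t_add, e1, he]
    refine sum_mem fun i hi => AddSubgroup.zsmul_mem _ ?_ _
    have := mem_range.1 hi
    refine ⟨t H (r - i) (f H (e i)), mem_ran H (r - i) (by omega) _, ?_⟩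
    rw [t_add]
    congr 2
    omega
  obtain ⟨z, hz, hzy⟩ := h1
  rwa [← t_one_injective H hzy]

theorem Ψ_surjective : Function.Surjective (Ψ H) := by
  rw [← AddMonoidHom.range_eq_top]
  refine eq_top_of_mk_mem _ fun F hF => ?_
  obtain ⟨n, hn⟩ := H.reg_mem F hF
  apply mem_of_t H n
  rw [t_mk]
  exact mem_of_reg H _ (hn n le_rfl) _

theorem bijective : Function.Bijective (fun x : Fin (r + 1) → K0sub VS =>
    ∑ i : Fin (r + 1), t H (i : ℕ) (f H (x i))) := by
  have : (fun x : Fin (r + 1) → K0sub VS => ∑ i : Fin (r + 1), t H (i : ℕ) (f H (x i))) =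
      Ψ H := by
    funext x
    rw [Ψ_apply]
  rw [this]
  exact ⟨Ψ_injective H, Ψ_surjective H⟩

end Groth.Agent.Ega3A.K0Proj
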