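import Groth.Agent.Ega3A.TwistBC
import Groth.Agent.Ega3B.ProjTwist
import Groth.Agent.PerfC.TensRestr
import Groth.Prelude.Def_DCoh4

/-!
# Charts of `P^n_S` and the twists on them

For a ring hom `φ : A → B` and `g = ProjBC.pmap φ n : P^n_B ⟶ P^n_A` we have `g^* O(d) ≅ O(d)`.
For `h : Spec A ⟶ S` the chart `chart n h : P^n_A ⟶ P^n_S` is the base change of `h`, and
`(chart n h)^* O(d) ≅ O(d)`.
-/

set_option autoImplicit false
universe u

open CategoryTheory AlgebraicGeometry Limits TopologicalSpace Opposite TopCat CohB1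

namespace Groth.Agent.Ega3A.PChart

open Twist CohqB.ProjBC TwistBC

section ring

variable {A B : Type u} [CommRing A] [CommRing B] (φ : A →+* B) (n : ℕ)

/-- `g^* O(d) ⟶ O(d)` for `g : P^n_B ⟶ P^n_A`. -/
noncomputable def pullTwistHom (d : ℤ) :
    (Scheme.Modules.pullback (pmap φ n)).obj (twistProjSpace n A d) ⟶ twistProjSpace n B d :=
  pullHom (gmap φ n) (irrelevant_le φ n) d

instance isIso_pullTwistHom (d : ℤ) : IsIso (pullTwistHom φ n d) :=
  isIso_pullHom (gmap φ n) (irrelevant_le φ n) (Ega3B.ProjTwist.coveredByOne n A) d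

/-- `g^* O(d) ≅ O(d)` for `g : P^n_B ⟶ P^n_A`. -/
noncomputable def pullTwistIso (d : ℤ) :
    (Scheme.Modules.pullback (pmap φ n)).obj (twistProjSpace n A d) ≅ twistProjSpace n B d :=
  asIso (pullTwistHom φ n d)

/-- `pullTwistIso` on the pullback of sections. -/
lemma pullTwistIso_hom_app (d : ℤ) (U : (ProjSpace n A).Opens) (t : Γ(twistProjSpace n A d, U)) :
    (pullTwistIso φ n d).hom.app ((pmap φ n) ⁻¹ᵁ U) (Fdesc.LocGen.pullSec (pmap φ n) t) =
      pullSect (gmap φ n) (irrelevant_le φ n) d U t :=
  pullHom_app (gmap φ n) (irrelevant_le φ n) d U t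

/-- The global section of `O(d)` defined by a form of degree `d` is compatible with base change. -/
lemma pullSect_globalOf {d : ℕ} (a : polyGrading n A d) :
    pullSect (gmap φ n) (irrelevant_le φ n) (d : ℤ) ⊤ (globalOf (polyGrading n A) a) =
      globalOf (polyGrading n B) (⟨MvPolynomial.map φ a.1, (gmap φ n).map_mem a.2⟩ : polyGrading n B d) := by
  refine Subtype.ext (funext fun y => Subtype.ext ?_)
  refine (locMap_mk (gmap φ n) (irrelevant_le φ n) y.1 a.1 1 _).trans ?_
  change Localization.mk (gmap φ n a.1) _ = Localization.mk _ _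
  congr 1
  exact Subtype.ext (map_one (gmap φ n))

end ring

section chart

variable (n : ℕ) {A : Type u} [CommRing A] {S : Scheme.{u}} (h : Spec (CommRingCat.of A) ⟶ S)

/-- The unique ring hom from the universe lift of `ℤ`. -/
noncomputable def zmap (A : Type u) [CommRing A] : ULift.{u} ℤ →+* A :=
  (Int.castRingHom A).comp (ULift.ringEquiv.{0, u} (R := ℤ)).toRingHom

@[reassoc]
lemma projSpaceOverIso_inv_fstZ (A : Type u) [CommRing A] :
    (projSpaceOverIso n A).inv ≫ fstZ n (Spec (CommRingCat.of A)) = pmap (zmap A) n :=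
  IsPullback.isoIsPullback_inv_fst _ _ _ _

/-- The chart `P^n_A ⟶ P^n_S` over `h : Spec A ⟶ S`. -/
noncomputable def chart : ProjSpace n A ⟶ ProjSpaceOver n S :=
  (projSpaceOverIso n A).inv ≫ overMap n h

@[reassoc]
lemma chart_toBase : chart n h ≫ ProjSpaceOver.toBase n S = ProjSpace.toSpec n A ≫ h := by
  rw [chart, Category.assoc, overMap_toBase, projSpaceOverIso_inv_toBase_assoc]

@[reassoc]
lemma chart_fstZ : chart n h ≫ fstZ n S = pmap (zmap A) n := by
  rw [chart, Category.assoc, overMap_fstZ, projSpaceOverIso_inv_fstZ]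

lemma isPullback_chart : IsPullback (chart n h) (ProjSpace.toSpec n A)
    (ProjSpaceOver.toBase n S) h := by
  have h1 : IsPullback (projSpaceOverIso n A).inv (ProjSpace.toSpec n A)
      (ProjSpaceOver.toBase n (Spec (CommRingCat.of A))) (𝟙 _) :=
    IsPullback.of_horiz_isIso ⟨by simp⟩
  have h2 := h1.paste_horiz (isPullback_overMap n h)
  rw [Category.id_comp] at h2
  exact h2

instance isOpenImmersion_chart [IsOpenImmersion h] : IsOpenImmersion (chart n h) :=
  MorphismProperty.of_isPullback (P := @IsOpenImmersion) (isPullback_chart n h).flip inferInstance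

/-- `O(d)` restricts to `O(d)` on the chart. -/
noncomputable def chartTwistIso (d : ℤ) :
    (Scheme.Modules.pullback (chart n h)).obj (twistOver n S d) ≅ twistProjSpace n A d :=
  (Scheme.Modules.pullbackComp (chart n h) (fstZ n S)).app _ ≪≫
    (Scheme.Modules.pullbackCongr (chart_fstZ n h)).app _ ≪≫ pullTwistIso (zmap A) n d

variable [IsOpenImmersion h]

/-- `O(d)` restricts to `O(d)` on the chart. -/
noncomputable def restrictTwistIso (d : ℤ) :
    (twistOver n S d).restrict (chart n h) ≅ twistProjSpace n A d :=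
  (Scheme.Modules.restrictFunctorIsoPullback (chart n h)).app _ ≪≫ chartTwistIso n h d

/-- `O(d) ⊗ M` restricts to `O(d) ⊗ M|` on the chart. -/
noncomputable def restrictTensorIso (d : ℤ) (M : (ProjSpaceOver n S).Modules) :
    (((DCoh.tensorBi (X := ProjSpaceOver n S)).obj (twistOver n S d)).obj M).restrict (chart n h) ≅
      ((DCoh.tensorBi (X := ProjSpace n A)).obj (twistProjSpace n A d)).obj
        (M.restrict (chart n h)) :=
  (PerfC.TensRestr.resIso (chart n h) (twistOver n S d) M).symm ≪≫
    ((DCoh.tensorBi (X := ProjSpace n A)).mapIso (restrictTwistIso n h d)).app _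

end chart

end Groth.Agent.Ega3A.PChart
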