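import Groth.Agent.Ega2.TwistInv
import Groth.Agent.Ega3B.PullTensor
import Groth.Agent.CohqB.ProjBC
import Groth.Agent.Fdesc.LocGenPullback

/-!
# Base change of Serre's twists

For a graded ring homomorphism `f : 𝒜 → ℬ` inducing `g = Proj.map f : Proj ℬ ⟶ Proj 𝒜` there is a canonical
morphism `g^* O(n) ⟶ O(n)`, sending the pullback of the section `a / s` to `f a / f s`; it is an isomorphism
when `Proj 𝒜` is covered by the `D_+(a)`, `deg a = 1`.
-/

set_option autoImplicit false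
universe u

open CategoryTheory AlgebraicGeometry Limits TopologicalSpace Opposite TopCat

namespace Groth.Agent.Ega3A.TwistBC

open Twist Ega2.TwistBasic Ega2.TwistInv

variable {R A R' B : Type u} [CommRing R] [CommRing A] [Algebra R A] [CommRing R'] [CommRing B]
  [Algebra R' B] {𝒜 : ℕ → Submodule R A} [GradedAlgebra 𝒜] {ℬ : ℕ → Submodule R' B} [GradedAlgebra ℬ]
  (f : 𝒜 →+*ᵍ ℬ)
  (hf : HomogeneousIdeal.irrelevant ℬ ≤ (HomogeneousIdeal.irrelevant 𝒜).map f)

/-- The local homomorphism on localizations. -/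
noncomputable def locMap (y : ProjectiveSpectrum ℬ) :
    Loc 𝒜 (ProjectiveSpectrum.comap f hf y) →+* Loc ℬ y :=
  Localization.localRingHom _ _ (f : A →+* B) rfl

lemma locMap_mk (y : ProjectiveSpectrum ℬ) (a s : A)
    (hs : s ∉ (ProjectiveSpectrum.comap f hf y).asHomogeneousIdeal) :
    locMap f hf y (Localization.mk a ⟨s, hs⟩) = Localization.mk (f a) ⟨f s, hs⟩ :=
  Localization.localRingHom_mk _ _ _ _ _ _ 

lemma locMap_val (y : ProjectiveSpectrum ℬ) (c : A0 𝒜 (ProjectiveSpectrum.comap f hf y)) :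
    locMap f hf y c.val = (HomogeneousLocalization.localRingHom f _ y.1.1 rfl c).val := by
  rw [HomogeneousLocalization.val_localRingHom]
  rfl

theorem locMap_mem (n : ℤ) (y : ProjectiveSpectrum ℬ) (q : Loc 𝒜 (ProjectiveSpectrum.comap f hf y))
    (hq : q ∈ twistAt 𝒜 n (ProjectiveSpectrum.comap f hf y)) : locMap f hf y q ∈ twistAt ℬ n y := by
  induction hq using Submodule.span_induction with
  | mem q hq =>
    obtain ⟨i, j, a, s, hs, hk, rfl⟩ := hq
    exact Submodule.subset_span ⟨i, j, ⟨f a.1, f.map_mem a.2⟩, ⟨f s.1, f.map_mem s.2⟩, hs, hk,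
      locMap_mk f hf y a.1 s.1 hs⟩
  | zero => rw [map_zero]; exact Submodule.zero_mem _
  | add p q _ _ hp hq => rw [map_add]; exact Submodule.add_mem _ hp hq
  | smul c q _ hq =>
    rw [Algebra.smul_def, map_mul, HomogeneousLocalization.algebraMap_apply, locMap_val,
      ← HomogeneousLocalization.algebraMap_apply, ← Algebra.smul_def]
    exact Submodule.smul_mem _ _ hq

/-- The map on fibres. -/
noncomputable def pullAt (n : ℤ) (y : ProjectiveSpectrum ℬ)
    (q : twistAt 𝒜 n (ProjectiveSpectrum.comap f hf y)) : twistAt ℬ n y :=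
  ⟨locMap f hf y q.1, locMap_mem f hf n y q.1 q.2⟩

lemma pullAt_val (n : ℤ) (y : ProjectiveSpectrum ℬ)
    (q : twistAt 𝒜 n (ProjectiveSpectrum.comap f hf y)) :
    (pullAt f hf n y q).1 = locMap f hf y q.1 := rfl

theorem isLocFracN_pull (n : ℤ) (U : Opens (ProjectiveSpectrum.top 𝒜))
    (t : ∀ x : U, twistAt 𝒜 n x.1) (ht : (isLocFracN 𝒜 n).pred t) :
    (isLocFracN ℬ n).pred (U := (Proj.map f hf) ⁻¹ᵁ U)
      (fun y => pullAt f hf n y.1 (t ⟨ProjectiveSpectrum.comap f hf y.1, y.2⟩)) := fun y => by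
  rcases ht ⟨ProjectiveSpectrum.comap f hf y.1, y.2⟩ with ⟨V, hV, iV, i, j, a, s, nin, hk, w⟩
  refine ⟨(Proj.map f hf) ⁻¹ᵁ V, hV, ((Proj.map f hf).preimage_mono iV.le).hom, i, j,
    ⟨f a.1, f.map_mem a.2⟩, ⟨f s.1, f.map_mem s.2⟩,
    fun z => nin ⟨ProjectiveSpectrum.comap f hf z.1, z.2⟩, ?_, fun z => ?_⟩
  · rcases hk with hk | hk
    · exact Or.inl hk
    · exact Or.inr (show f a.1 = 0 by rw [hk, map_zero])
  · have e1 := w ⟨ProjectiveSpectrum.comap f hf z.1, z.2⟩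
    dsimp only at e1 ⊢
    erw [pullAt_val, e1]
    exact locMap_mk f hf z.1 a.1 s.1 _

/-- The map on sections. -/
noncomputable def pullSect (n : ℤ) (U : Opens (ProjectiveSpectrum.top 𝒜)) :
    sectN (𝒜 := 𝒜) n (op U) →+ sectN (𝒜 := ℬ) n (op ((Proj.map f hf) ⁻¹ᵁ U)) where
  toFun t := ⟨fun y => pullAt f hf n y.1 (t.1 ⟨ProjectiveSpectrum.comap f hf y.1, y.2⟩),
    isLocFracN_pull f hf n U t.1 t.2⟩
  map_zero' := Subtype.ext (funext fun y => Subtype.ext (map_zero (locMap f hf y.1)))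
  map_add' s t := Subtype.ext (funext fun y => Subtype.ext (map_add (locMap f hf y.1) _ _))

lemma pullSect_val (n : ℤ) (U : Opens (ProjectiveSpectrum.top 𝒜)) (t : sectN (𝒜 := 𝒜) n (op U))
    (y : ((Proj.map f hf) ⁻¹ᵁ U : Opens (ProjectiveSpectrum.top ℬ))) :
    ((pullSect f hf n U t).1 y).1 =
      locMap f hf y.1 (t.1 ⟨ProjectiveSpectrum.comap f hf y.1, y.2⟩).1 := rfl

lemma pullSect_smul (n : ℤ) (U : Opens (ProjectiveSpectrum.top 𝒜)) (c : O (𝒜 := 𝒜) (op U))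
    (t : sectN (𝒜 := 𝒜) n (op U)) :
    pullSect f hf n U (smulS n c t) =
      smulS n ((Proj.map f hf).app U c : O (𝒜 := ℬ) (op ((Proj.map f hf) ⁻¹ᵁ U)))
        (pullSect f hf n U t) := by
  refine Subtype.ext (funext fun y => Subtype.ext ?_)
  change locMap f hf y.1 ((smulS n c t).1 ⟨ProjectiveSpectrum.comap f hf y.1, y.2⟩).1 = _
  have h1 := smulS_val n c t ⟨ProjectiveSpectrum.comap f hf y.1, y.2⟩
  have h2 := smulS_val n ((Proj.map f hf).app U c : O (𝒜 := ℬ) (op ((Proj.map f hf) ⁻¹ᵁ U)))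
    (pullSect f hf n U t) y
  rw [h1, h2, map_mul, pullSect_val]
  congr 1
  exact locMap_val f hf y.1 _

/-- The canonical morphism `O(n) ⟶ g_* O(n)`. -/
noncomputable def pushHom (n : ℤ) :
    twist 𝒜 n ⟶ (Scheme.Modules.pushforward (Proj.map f hf)).obj (twist ℬ n) :=
  Fdesc.LocGen.mkHom (M := twist 𝒜 n)
    (N := (Scheme.Modules.pushforward (Proj.map f hf)).obj (twist ℬ n))
    (fun U => pullSect f hf n U)
    (fun U a m => pullSect_smul f hf n U a m)
    (fun _ _ _ _ => rfl)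

lemma pushHom_app (n : ℤ) (U : (Proj 𝒜).Opens) (t : Γ(twist 𝒜 n, U)) :
    (pushHom f hf n).app U t = pullSect f hf n U t := rfl

/-- The canonical morphism `g^* O(n) ⟶ O(n)`. -/
noncomputable def pullHom (n : ℤ) :
    (Scheme.Modules.pullback (Proj.map f hf)).obj (twist 𝒜 n) ⟶ twist ℬ n :=
  ((Scheme.Modules.pullbackPushforwardAdjunction (Proj.map f hf)).homEquiv _ _).symm (pushHom f hf n)

lemma pullHom_app (n : ℤ) (U : (Proj 𝒜).Opens) (t : Γ(twist 𝒜 n, U)) :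
    (pullHom f hf n).app ((Proj.map f hf) ⁻¹ᵁ U) (Fdesc.LocGen.pullSec (Proj.map f hf) t) =
      pullSect f hf n U t := by
  rw [← Fdesc.LocGen.homEquiv_app, pullHom, Equiv.apply_symm_apply, pushHom_app]

lemma isGen_of_tensHom {X : Scheme.{u}} {M : X.Modules} {U : X.Opens} {e : Γ(M, U)}
    (h : Ega2.TensHom.IsGen M U e) : Fdesc.LocGen.IsGen e := h

lemma pullSect_fracSec (n : ℤ) {i j : ℕ} (a : 𝒜 i) (s : 𝒜 j) (h : (i : ℤ) = j + n)
    (U : Opens (ProjectiveSpectrum.top 𝒜)) (hU : ∀ x ∈ U, s.1 ∉ x.asHomogeneousIdeal) :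
    pullSect f hf n U (fracSec n a s h U hU) =
      fracSec n (⟨f a.1, f.map_mem a.2⟩ : ℬ i) (⟨f s.1, f.map_mem s.2⟩ : ℬ j) h
        ((Proj.map f hf) ⁻¹ᵁ U) (fun y hy => hU (ProjectiveSpectrum.comap f hf y) hy) :=
  Subtype.ext (funext fun y => Subtype.ext (locMap_mk f hf y.1 a.1 s.1 _))

theorem isIso_pullHom (h : CoveredByOne 𝒜) (n : ℤ) : IsIso (pullHom f hf n) := by
  apply Ega3B.PullTensor.isIso_of_isGen
  intro y
  obtain ⟨a, U, hxU, hU⟩ := h (Proj.map f hf y)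
  refine ⟨(Proj.map f hf) ⁻¹ᵁ U, Fdesc.LocGen.pullSec (M := twist 𝒜 n) (Proj.map f hf) (powSec a n U hU), hxU, ?_, ?_⟩
  · exact Fdesc.LocGen.IsGen.pullSec _ (isGen_of_tensHom (isGen_powSec a n U hU))
  · have h1 := pullHom_app f hf n U (powSec a n U hU)
    rw [h1, powSec, pullSect_fracSec]
    exact isGen_of_tensHom (isGen_fracSec n _ _ _ _ _
      (fun x hx => powOne_notMem (hU (ProjectiveSpectrum.comap f hf x) hx) _))

end Groth.Agent.Ega3A.TwistBC
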